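import Cfsg.Agent.Lib.CosetEnum.LyRep.Checks
import Cfsg.Agent.Lib.BigMat.Present

/-!
# A representation of the presented Lyons group of dimension 111 over the field with five elements
-/

set_option autoImplicit false

namespace Cfsg.Lib.CosetEnum.LyRep

open Cfsg.Spor

/-- The image of `a` in the presented Lyons group is not trivial. -/
theorem mk_a_ne_one :
    (PresentedGroup.mk (coxRelators Ly.edges ∪ {r | r ∈ Ly.extra})) Ly.a ≠ 1 := by
  refine BigMat.mk_ne_one (n := 111) (k := 10) (by norm_num) (by norm_num) letterMat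
    (fun g hg => mats_ok g hg) (fun g hg => invs_ok g hg) genWord (fun b l hl => genWord_lt b l hl)
    _ ?_ (b := Ly.Gen.a) (g := 0) rfl mat0_ne_one
  rintro r (⟨x, hx, -⟩ | hr)
  · simp [Ly.edges, coxNodes] at hx
  · obtain ⟨j, hj, rfl⟩ := List.mem_iff_getElem.1 hr
    rw [← List.getD_eq_getElem _ 1 hj]
    exact rels_ok j (length_extra ▸ hj)

end Cfsg.Lib.CosetEnum.LyRep
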