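import Cfsg.Agent.Lib.CosetEnum.LyRep.Words

/-! Generated certificate. -/

set_option autoImplicit false
set_option maxRecDepth 20000

namespace Cfsg.Lib.CosetEnum.LyRep

theorem rel8_ok : relOK 8 = true := by decide +kernel

theorem rel18_ok : relOK 18 = true := by decide +kernel

theorem rel26_ok : relOK 26 = true := by decide +kernel

theorem rel27_ok : relOK 27 = true := by decide +kernel

theorem rel33_ok : relOK 33 = true := by decide +kernel

theorem rel41_ok : relOK 41 = true := by decide +kernel

theorem rel73_ok : relOK 73 = true := by decide +kernel

theorem rel78_ok : relOK 78 = true := by decide +kernel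

theorem rel82_ok : relOK 82 = true := by decide +kernel

end Cfsg.Lib.CosetEnum.LyRep
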