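import Cfsg.Agent.Lib.CosetEnum.LyRep.Words

/-! Generated certificate. -/

set_option autoImplicit false
set_option maxRecDepth 20000

namespace Cfsg.Lib.CosetEnum.LyRep

theorem rel0_ok : relOK 0 = true := by decide +kernel

theorem rel9_ok : relOK 9 = true := by decide +kernel

theorem rel13_ok : relOK 13 = true := by decide +kernel

theorem rel16_ok : relOK 16 = true := by decide +kernel

theorem rel21_ok : relOK 21 = true := by decide +kernel

theorem rel22_ok : relOK 22 = true := by decide +kernel

theorem rel42_ok : relOK 42 = true := by decide +kernel

theorem rel72_ok : relOK 72 = true := by decide +kernel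

theorem rel80_ok : relOK 80 = true := by decide +kernel

theorem rel83_ok : relOK 83 = true := by decide +kernel

end Cfsg.Lib.CosetEnum.LyRep
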