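import Cfsg.Agent.Lib.CosetEnum.LyRep.Words

/-! Generated certificate. -/

set_option autoImplicit false
set_option maxRecDepth 20000

namespace Cfsg.Lib.CosetEnum.LyRep

theorem rel3_ok : relOK 3 = true := by decide +kernel

theorem rel14_ok : relOK 14 = true := by decide +kernel

theorem rel23_ok : relOK 23 = true := by decide +kernel

theorem rel24_ok : relOK 24 = true := by decide +kernel

theorem rel29_ok : relOK 29 = true := by decide +kernel

theorem rel31_ok : relOK 31 = true := by decide +kernel

theorem rel36_ok : relOK 36 = true := by decide +kernel

theorem rel43_ok : relOK 43 = true := by decide +kernel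

theorem rel77_ok : relOK 77 = true := by decide +kernel

theorem rel85_ok : relOK 85 = true := by decide +kernel

end Cfsg.Lib.CosetEnum.LyRep
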