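import Cfsg.Agent.Lib.CosetEnum.LyRep.Words

/-! Generated certificate. -/

set_option autoImplicit false
set_option maxRecDepth 20000

namespace Cfsg.Lib.CosetEnum.LyRep

theorem rel2_ok : relOK 2 = true := by decide +kernel

theorem rel4_ok : relOK 4 = true := by decide +kernel

theorem rel5_ok : relOK 5 = true := by decide +kernel

theorem rel6_ok : relOK 6 = true := by decide +kernel

theorem rel10_ok : relOK 10 = true := by decide +kernel

theorem rel15_ok : relOK 15 = true := by decide +kernel

theorem rel17_ok : relOK 17 = true := by decide +kernel

theorem rel30_ok : relOK 30 = true := by decide +kernel

theorem rel44_ok : relOK 44 = true := by decide +kernel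

theorem rel45_ok : relOK 45 = true := by decide +kernel

theorem rel46_ok : relOK 46 = true := by decide +kernel

theorem rel47_ok : relOK 47 = true := by decide +kernel

theorem rel48_ok : relOK 48 = true := by decide +kernel

theorem rel49_ok : relOK 49 = true := by decide +kernel

theorem rel50_ok : relOK 50 = true := by decide +kernel

theorem rel51_ok : relOK 51 = true := by decide +kernel

theorem rel52_ok : relOK 52 = true := by decide +kernel

theorem rel53_ok : relOK 53 = true := by decide +kernel

theorem rel54_ok : relOK 54 = true := by decide +kernel

theorem rel55_ok : relOK 55 = true := by decide +kernel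

theorem rel56_ok : relOK 56 = true := by decide +kernel

theorem rel57_ok : relOK 57 = true := by decide +kernel

theorem rel58_ok : relOK 58 = true := by decide +kernel

theorem rel59_ok : relOK 59 = true := by decide +kernel

theorem rel60_ok : relOK 60 = true := by decide +kernel

theorem rel61_ok : relOK 61 = true := by decide +kernel

theorem rel62_ok : relOK 62 = true := by decide +kernel

theorem rel63_ok : relOK 63 = true := by decide +kernel

theorem rel64_ok : relOK 64 = true := by decide +kernel

theorem rel65_ok : relOK 65 = true := by decide +kernel

theorem rel66_ok : relOK 66 = true := by decide +kernel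

theorem rel67_ok : relOK 67 = true := by decide +kernel

theorem rel68_ok : relOK 68 = true := by decide +kernel

theorem rel69_ok : relOK 69 = true := by decide +kernel

theorem rel70_ok : relOK 70 = true := by decide +kernel

theorem rel71_ok : relOK 71 = true := by decide +kernel

theorem rel74_ok : relOK 74 = true := by decide +kernel

theorem rel76_ok : relOK 76 = true := by decide +kernel

theorem rel79_ok : relOK 79 = true := by decide +kernel

theorem rel81_ok : relOK 81 = true := by decide +kernel

end Cfsg.Lib.CosetEnum.LyRep
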