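import Cfsg.Agent.Lib.CosetEnum.LyRep.Words

/-! Generated certificate. -/

set_option autoImplicit false
set_option maxRecDepth 20000

namespace Cfsg.Lib.CosetEnum.LyRep

theorem rel7_ok : relOK 7 = true := by decide +kernel

theorem rel11_ok : relOK 11 = true := by decide +kernel

theorem rel19_ok : relOK 19 = true := by decide +kernel

theorem rel25_ok : relOK 25 = true := by decide +kernel

theorem rel28_ok : relOK 28 = true := by decide +kernel

theorem rel32_ok : relOK 32 = true := by decide +kernel

theorem rel34_ok : relOK 34 = true := by decide +kernel

theorem rel37_ok : relOK 37 = true := by decide +kernel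

theorem rel38_ok : relOK 38 = true := by decide +kernel

theorem rel39_ok : relOK 39 = true := by decide +kernel

theorem rel75_ok : relOK 75 = true := by decide +kernel

end Cfsg.Lib.CosetEnum.LyRep
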