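import Cfsg.Agent.Lib.CosetEnum.LyRep.RelPart0
import Cfsg.Agent.Lib.CosetEnum.LyRep.RelPart1
import Cfsg.Agent.Lib.CosetEnum.LyRep.RelPart2
import Cfsg.Agent.Lib.CosetEnum.LyRep.RelPart3
import Cfsg.Agent.Lib.CosetEnum.LyRep.RelPart4
import Cfsg.Agent.Lib.CosetEnum.LyRep.RelPart5

/-! Generated certificate. -/

set_option autoImplicit false
set_option maxRecDepth 20000

namespace Cfsg.Lib.CosetEnum.LyRep

theorem mat0_ok : BigMat.matOK 111 (letterMat 0) = true := by decide +kernel

theorem mat1_ok : BigMat.matOK 111 (letterMat 1) = true := by decide +kernel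

theorem mat2_ok : BigMat.matOK 111 (letterMat 2) = true := by decide +kernel

theorem mat3_ok : BigMat.matOK 111 (letterMat 3) = true := by decide +kernel

theorem mat4_ok : BigMat.matOK 111 (letterMat 4) = true := by decide +kernel

theorem mat5_ok : BigMat.matOK 111 (letterMat 5) = true := by decide +kernel

theorem mat6_ok : BigMat.matOK 111 (letterMat 6) = true := by decide +kernel

theorem mat7_ok : BigMat.matOK 111 (letterMat 7) = true := by decide +kernel

theorem mat8_ok : BigMat.matOK 111 (letterMat 8) = true := by decide +kernel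

theorem mat9_ok : BigMat.matOK 111 (letterMat 9) = true := by decide +kernel

theorem mat10_ok : BigMat.matOK 111 (letterMat 10) = true := by decide +kernel

theorem mat11_ok : BigMat.matOK 111 (letterMat 11) = true := by decide +kernel

theorem mat12_ok : BigMat.matOK 111 (letterMat 12) = true := by decide +kernel

theorem mat13_ok : BigMat.matOK 111 (letterMat 13) = true := by decide +kernel

theorem mat14_ok : BigMat.matOK 111 (letterMat 14) = true := by decide +kernel

theorem mat15_ok : BigMat.matOK 111 (letterMat 15) = true := by decide +kernel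

theorem mat16_ok : BigMat.matOK 111 (letterMat 16) = true := by decide +kernel

theorem mat17_ok : BigMat.matOK 111 (letterMat 17) = true := by decide +kernel

theorem mat18_ok : BigMat.matOK 111 (letterMat 18) = true := by decide +kernel

theorem mat19_ok : BigMat.matOK 111 (letterMat 19) = true := by decide +kernel

theorem inv0_ok :
    Nat.beq (BigMat.mul 111 (letterMat 0) (letterMat (flipLetter 0))) (BigMat.one 111) = true := by
  decide +kernel

theorem inv1_ok :
    Nat.beq (BigMat.mul 111 (letterMat 1) (letterMat (flipLetter 1))) (BigMat.one 111) = true := by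
  decide +kernel

theorem inv2_ok :
    Nat.beq (BigMat.mul 111 (letterMat 2) (letterMat (flipLetter 2))) (BigMat.one 111) = true := by
  decide +kernel

theorem inv3_ok :
    Nat.beq (BigMat.mul 111 (letterMat 3) (letterMat (flipLetter 3))) (BigMat.one 111) = true := by
  decide +kernel

theorem inv4_ok :
    Nat.beq (BigMat.mul 111 (letterMat 4) (letterMat (flipLetter 4))) (BigMat.one 111) = true := by
  decide +kernel

theorem inv5_ok :
    Nat.beq (BigMat.mul 111 (letterMat 5) (letterMat (flipLetter 5))) (BigMat.one 111) = true := by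
  decide +kernel

theorem inv6_ok :
    Nat.beq (BigMat.mul 111 (letterMat 6) (letterMat (flipLetter 6))) (BigMat.one 111) = true := by
  decide +kernel

theorem inv7_ok :
    Nat.beq (BigMat.mul 111 (letterMat 7) (letterMat (flipLetter 7))) (BigMat.one 111) = true := by
  decide +kernel

theorem inv8_ok :
    Nat.beq (BigMat.mul 111 (letterMat 8) (letterMat (flipLetter 8))) (BigMat.one 111) = true := by
  decide +kernel

theorem inv9_ok :
    Nat.beq (BigMat.mul 111 (letterMat 9) (letterMat (flipLetter 9))) (BigMat.one 111) = true := by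
  decide +kernel

theorem inv10_ok :
    Nat.beq (BigMat.mul 111 (letterMat 10) (letterMat (flipLetter 10))) (BigMat.one 111) = true := by
  decide +kernel

theorem inv11_ok :
    Nat.beq (BigMat.mul 111 (letterMat 11) (letterMat (flipLetter 11))) (BigMat.one 111) = true := by
  decide +kernel

theorem inv12_ok :
    Nat.beq (BigMat.mul 111 (letterMat 12) (letterMat (flipLetter 12))) (BigMat.one 111) = true := by
  decide +kernel

theorem inv13_ok :
    Nat.beq (BigMat.mul 111 (letterMat 13) (letterMat (flipLetter 13))) (BigMat.one 111) = true := by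
  decide +kernel

theorem inv14_ok :
    Nat.beq (BigMat.mul 111 (letterMat 14) (letterMat (flipLetter 14))) (BigMat.one 111) = true := by
  decide +kernel

theorem inv15_ok :
    Nat.beq (BigMat.mul 111 (letterMat 15) (letterMat (flipLetter 15))) (BigMat.one 111) = true := by
  decide +kernel

theorem inv16_ok :
    Nat.beq (BigMat.mul 111 (letterMat 16) (letterMat (flipLetter 16))) (BigMat.one 111) = true := by
  decide +kernel

theorem inv17_ok :
    Nat.beq (BigMat.mul 111 (letterMat 17) (letterMat (flipLetter 17))) (BigMat.one 111) = true := by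
  decide +kernel

theorem inv18_ok :
    Nat.beq (BigMat.mul 111 (letterMat 18) (letterMat (flipLetter 18))) (BigMat.one 111) = true := by
  decide +kernel

theorem inv19_ok :
    Nat.beq (BigMat.mul 111 (letterMat 19) (letterMat (flipLetter 19))) (BigMat.one 111) = true := by
  decide +kernel

theorem mats_ok : ∀ j < 20, BigMat.matOK 111 (letterMat j) = true
  | 0, _ => mat0_ok
  | 1, _ => mat1_ok
  | 2, _ => mat2_ok
  | 3, _ => mat3_ok
  | 4, _ => mat4_ok
  | 5, _ => mat5_ok
  | 6, _ => mat6_ok
  | 7, _ => mat7_ok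
  | 8, _ => mat8_ok
  | 9, _ => mat9_ok
  | 10, _ => mat10_ok
  | 11, _ => mat11_ok
  | 12, _ => mat12_ok
  | 13, _ => mat13_ok
  | 14, _ => mat14_ok
  | 15, _ => mat15_ok
  | 16, _ => mat16_ok
  | 17, _ => mat17_ok
  | 18, _ => mat18_ok
  | 19, _ => mat19_ok
  | j + 20, h => absurd h (Nat.not_lt.2 (Nat.le_add_left 20 j))

theorem invs_ok : ∀ j < 20, Nat.beq (BigMat.mul 111 (letterMat j) (letterMat (flipLetter j))) (BigMat.one 111) = true
  | 0, _ => inv0_ok
  | 1, _ => inv1_ok
  | 2, _ => inv2_ok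
  | 3, _ => inv3_ok
  | 4, _ => inv4_ok
  | 5, _ => inv5_ok
  | 6, _ => inv6_ok
  | 7, _ => inv7_ok
  | 8, _ => inv8_ok
  | 9, _ => inv9_ok
  | 10, _ => inv10_ok
  | 11, _ => inv11_ok
  | 12, _ => inv12_ok
  | 13, _ => inv13_ok
  | 14, _ => inv14_ok
  | 15, _ => inv15_ok
  | 16, _ => inv16_ok
  | 17, _ => inv17_ok
  | 18, _ => inv18_ok
  | 19, _ => inv19_ok
  | j + 20, h => absurd h (Nat.not_lt.2 (Nat.le_add_left 20 j))

theorem rels_ok : ∀ j < 86, relOK j = true
  | 0, _ => rel0_ok
  | 1, _ => rel1_ok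
  | 2, _ => rel2_ok
  | 3, _ => rel3_ok
  | 4, _ => rel4_ok
  | 5, _ => rel5_ok
  | 6, _ => rel6_ok
  | 7, _ => rel7_ok
  | 8, _ => rel8_ok
  | 9, _ => rel9_ok
  | 10, _ => rel10_ok
  | 11, _ => rel11_ok
  | 12, _ => rel12_ok
  | 13, _ => rel13_ok
  | 14, _ => rel14_ok
  | 15, _ => rel15_ok
  | 16, _ => rel16_ok
  | 17, _ => rel17_ok
  | 18, _ => rel18_ok
  | 19, _ => rel19_ok
  | 20, _ => rel20_ok
  | 21, _ => rel21_ok
  | 22, _ => rel22_ok
  | 23, _ => rel23_ok
  | 24, _ => rel24_ok
  | 25, _ => rel25_ok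
  | 26, _ => rel26_ok
  | 27, _ => rel27_ok
  | 28, _ => rel28_ok
  | 29, _ => rel29_ok
  | 30, _ => rel30_ok
  | 31, _ => rel31_ok
  | 32, _ => rel32_ok
  | 33, _ => rel33_ok
  | 34, _ => rel34_ok
  | 35, _ => rel35_ok
  | 36, _ => rel36_ok
  | 37, _ => rel37_ok
  | 38, _ => rel38_ok
  | 39, _ => rel39_ok
  | 40, _ => rel40_ok
  | 41, _ => rel41_ok
  | 42, _ => rel42_ok
  | 43, _ => rel43_ok
  | 44, _ => rel44_ok
  | 45, _ => rel45_ok
  | 46, _ => rel46_ok
  | 47, _ => rel47_ok
  | 48, _ => rel48_ok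
  | 49, _ => rel49_ok
  | 50, _ => rel50_ok
  | 51, _ => rel51_ok
  | 52, _ => rel52_ok
  | 53, _ => rel53_ok
  | 54, _ => rel54_ok
  | 55, _ => rel55_ok
  | 56, _ => rel56_ok
  | 57, _ => rel57_ok
  | 58, _ => rel58_ok
  | 59, _ => rel59_ok
  | 60, _ => rel60_ok
  | 61, _ => rel61_ok
  | 62, _ => rel62_ok
  | 63, _ => rel63_ok
  | 64, _ => rel64_ok
  | 65, _ => rel65_ok
  | 66, _ => rel66_ok
  | 67, _ => rel67_ok
  | 68, _ => rel68_ok
  | 69, _ => rel69_ok
  | 70, _ => rel70_ok
  | 71, _ => rel71_ok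
  | 72, _ => rel72_ok
  | 73, _ => rel73_ok
  | 74, _ => rel74_ok
  | 75, _ => rel75_ok
  | 76, _ => rel76_ok
  | 77, _ => rel77_ok
  | 78, _ => rel78_ok
  | 79, _ => rel79_ok
  | 80, _ => rel80_ok
  | 81, _ => rel81_ok
  | 82, _ => rel82_ok
  | 83, _ => rel83_ok
  | 84, _ => rel84_ok
  | 85, _ => rel85_ok
  | j + 86, h => absurd h (Nat.not_lt.2 (Nat.le_add_left 86 j))

theorem length_extra : Spor.Ly.extra.length = 86 := by decide +kernel

theorem genWord_lt : ∀ g : Spor.Ly.Gen, ∀ l ∈ genWord g, l < 20 := by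
  intro g
  cases g <;> decide

theorem mat0_ne_one : Nat.beq (letterMat 0) (BigMat.one 111) = false := by decide +kernel

end Cfsg.Lib.CosetEnum.LyRep
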