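import Cfsg.Agent.Lib.CosetEnum.LyRep.Mat0
import Cfsg.Agent.Lib.CosetEnum.LyRep.Mat1
import Cfsg.Agent.Lib.CosetEnum.LyRep.Mat2
import Cfsg.Agent.Lib.CosetEnum.LyRep.Mat3
import Cfsg.Agent.Lib.CosetEnum.LyRep.Mat4
import Cfsg.Agent.Lib.CosetEnum.LyRep.Mat5
import Cfsg.Agent.Lib.CosetEnum.LyRep.Mat6
import Cfsg.Agent.Lib.CosetEnum.LyRep.Mat7
import Cfsg.Agent.Lib.CosetEnum.LyRep.Mat8
import Cfsg.Agent.Lib.CosetEnum.LyRep.Mat9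
import Cfsg.Agent.Lib.CosetEnum.LyRep.Mat10
import Cfsg.Agent.Lib.CosetEnum.LyRep.Mat11
import Cfsg.Agent.Lib.CosetEnum.LyRep.Mat12
import Cfsg.Agent.Lib.CosetEnum.LyRep.Mat13
import Cfsg.Agent.Lib.CosetEnum.LyRep.Mat14
import Cfsg.Agent.Lib.CosetEnum.LyRep.Mat15
import Cfsg.Agent.Lib.CosetEnum.LyRep.Mat16
import Cfsg.Agent.Lib.CosetEnum.LyRep.Mat17
import Cfsg.Agent.Lib.CosetEnum.LyRep.Mat18
import Cfsg.Agent.Lib.CosetEnum.LyRep.Mat19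
import Cfsg.Prelude.Def_Spor_Ly

/-! Generated data: the images of the generators of the Lyons group. -/

set_option autoImplicit false
set_option maxRecDepth 20000

namespace Cfsg.Lib.CosetEnum.LyRep

/-- The matrix of a letter: the images of `a, b, c, d, z, e, c2, c3, c4, c5`, then their inverses. -/
noncomputable def letterMat (g : Nat) : Nat :=
  cond (Nat.beq g 1) mat1 (cond (Nat.beq g 2) mat2 (cond (Nat.beq g 3) mat3 (cond (Nat.beq g 4) mat4 (cond (Nat.beq g 5) mat5 (cond (Nat.beq g 6) mat6 (cond (Nat.beq g 7) mat7 (cond (Nat.beq g 8) mat8 (cond (Nat.beq g 9) mat9 (cond (Nat.beq g 10) mat10 (cond (Nat.beq g 11) mat11 (cond (Nat.beq g 12) mat12 (cond (Nat.beq g 13) mat13 (cond (Nat.beq g 14) mat14 (cond (Nat.beq g 15) mat15 (cond (Nat.beq g 16) mat16 (cond (Nat.beq g 17) mat17 (cond (Nat.beq g 18) mat18 (cond (Nat.beq g 19) mat19 (mat0)))))))))))))))))))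

open Cfsg.Spor in
/-- Each generator as a word in the letters, first letter first. -/
def genWord : Ly.Gen → List Nat
  | .a => [0]
  | .b => [1]
  | .c => [2]
  | .d => [3]
  | .z => [4]
  | .e => [5]
  | .a1 => [0]
  | .a2 => [1, 0, 11]
  | .a3 => [1, 1, 0, 11, 11]
  | .a4 => [11, 11, 0, 1, 1]
  | .c1 => [2]
  | .c2 => [6]
  | .c3 => [7]
  | .c4 => [8]
  | .c5 => [9]
  | .u => [0, 0]
  | .x23 => [3]
  | .x24 => [13]
  | .x25 => [1, 1, 10, 11, 10, 1, 1, 12, 0, 2, 10, 12, 3, 12, 1, 1, 10, 2, 1]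
  | .x29 => [0, 1, 10, 1, 1, 10, 1, 1, 12, 0, 2, 1, 2, 11, 3, 2, 11, 11, 3, 2, 1, 2]
  | .x47 => [12, 13, 10, 12, 10, 1, 12, 13]
  | .x96 => [1, 3]
  | .x129 => [13, 11]
  | .x162 => [10, 11, 10, 1, 12, 11, 0, 12, 1, 0]
  | .x163 => [11, 11, 0, 2, 10, 1, 2, 1]
  | .x164 => [10, 11, 10, 2, 0, 1, 0]
  | .x165 => [11, 10, 1, 2, 11, 0, 1]
  | .x166 => [1, 1, 10, 11, 2, 1, 0, 2, 11, 11, 12]
  | .x167 => [10, 10, 10]
  | .x168 => [1, 10, 11, 10, 10]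
  | .x169 => [0, 1, 1, 0, 11, 11, 10]
  | .x364 => [10, 3, 11, 12, 10, 1, 12, 13, 1, 12, 11, 10, 12, 0, 11, 0, 1, 0, 11]
  | .x365 => [0, 11, 11, 10, 2, 1, 12, 1, 10, 12, 12, 3, 2, 0, 2, 10, 2, 11, 13]
  | .x366 => [1, 0, 11, 10, 11, 11, 10, 11, 2, 1, 1, 2, 1, 3, 2, 11, 11, 3, 2, 1, 2]
  | .x367 => [12, 11, 12, 13, 1, 1, 12, 13, 11, 12, 11, 11, 12, 1, 0, 1, 1, 0, 1, 10, 11]
  | .x368 => [10, 12, 13, 0, 12, 11, 0, 12, 13, 10, 12, 0, 2, 11, 11, 12, 11, 10, 11, 11]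
  | .x369 => [10, 12, 13, 1, 10, 11, 12, 13, 1, 10, 11, 12, 11, 0, 11, 11, 0, 11]
  | .x370 => [13, 0, 2, 1, 2, 10, 12, 13, 0, 11, 10, 2, 10, 11, 11, 10, 1, 10]
  | .x371 => [12, 10, 2, 1, 12, 13, 2, 10, 2, 0, 2, 11, 10, 11, 10, 1]

end Cfsg.Lib.CosetEnum.LyRep
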