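import Cfsg.Agent.Lib.CosetEnum.LyRep.Words

/-! Generated certificate. -/

set_option autoImplicit false
set_option maxRecDepth 20000

namespace Cfsg.Lib.CosetEnum.LyRep

theorem rel1_ok : relOK 1 = true := by decide +kernel

theorem rel12_ok : relOK 12 = true := by decide +kernel

theorem rel20_ok : relOK 20 = true := by decide +kernel

theorem rel35_ok : relOK 35 = true := by decide +kernel

theorem rel40_ok : relOK 40 = true := by decide +kernel

theorem rel84_ok : relOK 84 = true := by decide +kernel

end Cfsg.Lib.CosetEnum.LyRep
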