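import Cfsg.Agent.Lib.CosetEnum.LyRep.Letters
import Cfsg.Agent.Lib.BigMat.Defs
import Cfsg.Agent.Lib.CosetEnum.Signed.Words
import Mathlib

/-!
# The relators of the Lyons group as words in ten letters and their inverses
-/

set_option autoImplicit false

namespace Cfsg.Lib.CosetEnum.LyRep

open Cfsg.Spor

/-- The opposite letter. -/
def flipLetter (g : ℕ) : ℕ := Signed.flipAt 10 g

/-- The word of a relator. -/
def relWord (j : ℕ) : List ℕ := Signed.relatorWord 10 genWord (Ly.extra.getD j 1)

/-- The matrices of a relator's letters multiply to the unit matrix. -/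
noncomputable def relOK (j : ℕ) : Bool :=
  Nat.beq (BigMat.prodWord 111 letterMat (relWord j).reverse) (BigMat.one 111)

end Cfsg.Lib.CosetEnum.LyRep
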